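import Mathlib
import Groth.Agent.FieldExtLib.Imperfection

/-!
A truncation `K[x]/x^e`, `e ≥ 2`, is not formally smooth over a field.
-/

set_option autoImplicit false
set_option linter.style.haveILetI false
universe u
open IsLocalRing

namespace Groth.Agent.DVRSmoothLib

theorem not_formallySmooth_of_truncation (F : Type) (k B : Type u) [Field F] [PerfectField F] [Field k]
    [CommRing B] [IsLocalRing B] [Algebra F k] [Algebra k B] [Algebra F B] [IsScalarTower F k B]
    [Algebra.FormallySmooth k B] (x : B) (hmax : maximalIdeal B = Ideal.span {x}) (e : ℕ) (he : 2 ≤ e)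
    (hxe : x ^ e = 0) (hx2 : x ∉ Ideal.span {x ^ 2}) : False := by
  classical
  haveI : Algebra.FormallySmooth F k := Groth.Agent.FieldExtLib.formallySmooth_field_of_perfectField F k
  haveI : Algebra.FormallySmooth F B := Algebra.FormallySmooth.comp F k B
  let K := ResidueField B
  haveI : Algebra.FormallySmooth F K := Groth.Agent.FieldExtLib.formallySmooth_field_of_perfectField F K
  let π : B →ₐ[F] K := IsScalarTower.toAlgHom F B K
  have hπ : Function.Surjective π := residue_surjective
  have hπk : IsNilpotent (RingHom.ker π.toRingHom) := ⟨e, by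
    rw [Ideal.zero_eq_bot, eq_bot_iff]
    refine (Ideal.pow_right_mono (?_ : RingHom.ker π.toRingHom ≤ Ideal.span {x}) e).trans ?_
    · intro b hb; rw [← hmax]; exact (residue_eq_zero_iff b).1 hb
    · rw [Ideal.span_singleton_pow, hxe, Ideal.span_singleton_eq_bot.2 rfl]⟩
  let σ := Algebra.FormallySmooth.liftOfSurjective (AlgHom.id F K) π hπ hπk
  have hσ : ∀ c, residue B (σ c) = c := fun c =>
    Algebra.FormallySmooth.liftOfSurjective_apply (AlgHom.id F K) π hπ hπk c
  let I : Ideal (Polynomial K) := Ideal.span {Polynomial.X ^ (e + 1)}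
  letI : Algebra F (Polynomial K ⧸ I) := ((Ideal.Quotient.mk I).comp (Polynomial.C.comp (algebraMap F K))).toAlgebra
  let φ₀ : Polynomial K →+* B := Polynomial.eval₂RingHom σ.toRingHom x
  have hφ₀I : ∀ q ∈ I, φ₀ q = 0 := fun q hq => by
    obtain ⟨s, rfl⟩ := Ideal.mem_span_singleton'.1 hq
    rw [map_mul, map_pow, Polynomial.coe_eval₂RingHom, Polynomial.eval₂_X, pow_succ, hxe, zero_mul, mul_zero]
  let φ : Polynomial K ⧸ I →ₐ[F] B :=
    { Ideal.Quotient.lift I φ₀ hφ₀I with
      commutes' := fun a => by
        show φ₀ (Polynomial.C (algebraMap F K a)) = algebraMap F B a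
        rw [Polynomial.coe_eval₂RingHom, Polynomial.eval₂_C]
        exact σ.commutes a }
  have hφ : Function.Surjective φ := by
    have key : ∀ n, ∀ b : B, ∃ z r, b = φ z + x ^ n * r := by
      intro n
      induction n with
      | zero => exact fun b => ⟨0, b, by rw [map_zero, zero_add, pow_zero, one_mul]⟩
      | succ n ih =>
        intro b
        obtain ⟨z, r, rfl⟩ := ih b
        obtain ⟨s, hs⟩ := Ideal.mem_span_singleton'.1 (hmax ▸ (residue_eq_zero_iff _).1
          (show residue B (r - σ (residue B r)) = 0 by rw [map_sub, hσ, sub_self]))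
        refine ⟨z + Ideal.Quotient.mk I (Polynomial.X ^ n * Polynomial.C (residue B r)), s, ?_⟩
        have h1 : φ (Ideal.Quotient.mk I (Polynomial.X ^ n * Polynomial.C (residue B r))) = x ^ n * σ (residue B r) := by
          show φ₀ _ = _
          rw [map_mul, map_pow, Polynomial.coe_eval₂RingHom, Polynomial.eval₂_X, Polynomial.eval₂_C]
          rfl
        rw [map_add, h1]
        linear_combination (-x ^ n) * hs
    intro b
    obtain ⟨z, r, hb⟩ := key e b
    exact ⟨z, by rw [hb, hxe, zero_mul, add_zero]⟩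
  have hker : ∀ z, φ z = 0 → z ∈ Ideal.span {Ideal.Quotient.mk I (Polynomial.X ^ 2)} := by
    intro z hz
    obtain ⟨q, rfl⟩ := Ideal.Quotient.mk_surjective z
    have hq : φ₀ q = 0 := hz
    rw [← q.X_mul_divX_add, map_add, map_mul, Polynomial.coe_eval₂RingHom, Polynomial.eval₂_X, Polynomial.eval₂_C] at hq
    have h0 : q.coeff 0 = 0 := by
      have := congrArg (residue B) hq
      rw [map_add, map_mul, (residue_eq_zero_iff x).2 (hmax ▸ Ideal.mem_span_singleton_self x), zero_mul, zero_add,
        map_zero] at this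
      rwa [show residue B (σ.toRingHom (q.coeff 0)) = q.coeff 0 from hσ _] at this
    rw [h0, map_zero, add_zero, ← q.divX.X_mul_divX_add, Polynomial.eval₂_add, Polynomial.eval₂_mul,
      Polynomial.eval₂_X, Polynomial.eval₂_C] at hq
    have h1 : q.divX.coeff 0 = 0 := by
      by_contra hne
      have hu : IsUnit (σ (q.divX.coeff 0)) := (isUnit_iff_ne_zero.2 hne).map σ
      refine hx2 ((Ideal.unit_mul_mem_iff_mem _ hu).1 ?_)
      refine Ideal.mem_span_singleton'.2 ⟨-Polynomial.eval₂ σ.toRingHom x q.divX.divX, ?_⟩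
      show _ = σ.toRingHom (q.divX.coeff 0) * x
      linear_combination -hq
    refine Ideal.mem_span_singleton'.2 ⟨Ideal.Quotient.mk I q.divX.divX, ?_⟩
    rw [← map_mul]
    congr 1
    conv_rhs => rw [← q.X_mul_divX_add, h0, ← q.divX.X_mul_divX_add, h1]
    rw [map_zero, add_zero, add_zero]
    ring
  have hφk : IsNilpotent (RingHom.ker φ.toRingHom) := ⟨e + 1, by
    rw [Ideal.zero_eq_bot, eq_bot_iff]
    refine (Ideal.pow_right_mono (fun z hz => hker z hz) _).trans ?_
    rw [Ideal.span_singleton_pow, ← map_pow, ← pow_mul]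
    rw [Ideal.span_singleton_le_iff_mem, Ideal.mem_bot, Ideal.Quotient.eq_zero_iff_mem, Ideal.mem_span_singleton]
    exact pow_dvd_pow _ (by omega)⟩
  let w := Algebra.FormallySmooth.liftOfSurjective (AlgHom.id F B) φ hφ hφk
  have hw : φ (w x) = x := Algebra.FormallySmooth.liftOfSurjective_apply (AlgHom.id F B) φ hφ hφk x
  obtain ⟨s, hs⟩ := Ideal.mem_span_singleton'.1 (hker (w x - Ideal.Quotient.mk I Polynomial.X) (by
    rw [map_sub, hw]
    show x - φ₀ Polynomial.X = 0
    rw [Polynomial.coe_eval₂RingHom, Polynomial.eval₂_X, sub_self]))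
  have h0 : (w x) ^ e = 0 := by rw [← map_pow, hxe, map_zero]
  set X' := Ideal.Quotient.mk I Polynomial.X with hX'
  have hwx : w x = X' * (1 + X' * s) := by
    rw [map_pow] at hs
    linear_combination -hs
  have hunit : IsUnit (1 + X' * s) := by
    refine IsNilpotent.isUnit_one_add ⟨e + 1, ?_⟩
    rw [mul_pow, hX', ← map_pow, Ideal.Quotient.eq_zero_iff_mem.2 (Ideal.mem_span_singleton_self _), zero_mul]
  rw [hwx, mul_pow, (hunit.pow e).mul_left_eq_zero, hX', ← map_pow, Ideal.Quotient.eq_zero_iff_mem,
    Ideal.mem_span_singleton] at h0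
  have := (pow_dvd_pow_iff (a := (Polynomial.X : Polynomial K)) Polynomial.X_ne_zero Polynomial.not_isUnit_X).1 h0
  omega

end Groth.Agent.DVRSmoothLib
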